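import Mathlib.GroupTheory.Index
import Mathlib.GroupTheory.Archimedean
import Mathlib.Data.ZMod.QuotientGroup
import Mathlib.LinearAlgebra.Matrix.Rank
import Mathlib.Algebra.GCDMonoid.Finset
import Mathlib.RingTheory.Int.Basic
import Mathlib.LinearAlgebra.Dimension.RankNullity
import Mathlib.LinearAlgebra.Dimension.Localization
import Mathlib.LinearAlgebra.Dimension.StrongRankCondition
import Mathlib.LinearAlgebra.FreeModule.PID
import Mathlib.Tactic.LinearCombination

/-!
# Indices of lattices cut out by diagonal maps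
-/

set_option autoImplicit false

open Finset

namespace Groth.Agent.LatIndex

variable {n : ℕ}

/-- The diagonal endomorphism. -/
def diag (δ : Fin n → ℤ) : (Fin n → ℤ) →+ (Fin n → ℤ) where
  toFun x i := δ i * x i
  map_zero' := funext fun i => mul_zero _
  map_add' x y := funext fun i => mul_add _ _ _

theorem diag_apply (δ x : Fin n → ℤ) (i : Fin n) : diag δ x i = δ i * x i := rfl

theorem diag_injective {δ : Fin n → ℤ} (hδ : ∀ i, δ i ≠ 0) : Function.Injective (diag δ) :=
  fun x y h => funext fun i => mul_left_cancel₀ (hδ i) (congrFun h i)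

theorem index_range_diag (δ : Fin n → ℤ) : ((diag δ).range.index : ℤ) = |∏ i, δ i| := by
  have : (diag δ).range = AddSubgroup.pi Set.univ fun i => AddSubgroup.zmultiples (δ i) := by
    ext x
    constructor
    · rintro ⟨y, rfl⟩ i -
      exact Int.mem_zmultiples_iff.2 (dvd_mul_right _ _)
    · intro h
      choose y hy using fun i => Int.mem_zmultiples_iff.1 (h i trivial)
      exact ⟨y, funext fun i => (hy i).symm⟩
  rw [this, AddSubgroup.index_pi, Finset.abs_prod]
  push_cast
  exact Finset.prod_congr rfl fun i _ => by rw [Int.index_zmultiples, Int.natCast_natAbs]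

/-- The coordinate sum. -/
def csum (n : ℕ) : (Fin n → ℤ) →+ ℤ where
  toFun x := ∑ i, x i
  map_zero' := by simp
  map_add' x y := by simp [Finset.sum_add_distrib]

theorem csum_surjective (hn : 0 < n) : Function.Surjective (csum n) := fun z =>
  ⟨Pi.single ⟨0, hn⟩ z, by simp [csum]⟩

theorem range_csum_diag (δ : Fin n → ℤ) :
    ((csum n).comp (diag δ)).range = AddSubgroup.zmultiples (univ.gcd δ) := by
  obtain ⟨g, hg⟩ := Int.subgroup_cyclic ((csum n).comp (diag δ)).range
  rw [← AddSubgroup.zmultiples_eq_closure] at hg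
  rw [hg]
  have hge : ∀ i, g ∣ δ i := fun i => by
    have h : δ i ∈ AddSubgroup.zmultiples g := by
      rw [← hg]
      exact ⟨Pi.single i 1, by simp [csum, diag_apply, Pi.single_apply]⟩
    exact Int.mem_zmultiples_iff.1 h
  have hle : univ.gcd δ ∣ g := by
    obtain ⟨x, hx⟩ : g ∈ ((csum n).comp (diag δ)).range := hg ▸ AddSubgroup.mem_zmultiples g
    rw [← hx]
    show univ.gcd δ ∣ ∑ i, δ i * x i
    exact Finset.dvd_sum fun i _ => (Finset.gcd_dvd (mem_univ i)).mul_right _
  exact le_antisymm (AddSubgroup.zmultiples_le.2 (Int.mem_zmultiples_iff.2 hle))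
    (AddSubgroup.zmultiples_le.2 (Int.mem_zmultiples_iff.2 (Finset.dvd_gcd fun i _ => hge i)))

theorem gcd_nonneg (δ : Fin n → ℤ) : 0 ≤ univ.gcd δ :=
  (Int.nonneg_iff_normalize_eq_self _).1 Finset.normalize_gcd

theorem relIndex_mul_det (hn : 0 < n) {δ : Fin n → ℤ} (hδ : ∀ i, δ i ≠ 0)
    (M : AddSubgroup (Fin n → ℤ)) (hM : M ≤ ((csum n).comp (diag δ)).ker) :
    (M.relIndex ((csum n).comp (diag δ)).ker : ℤ) * |∏ i, δ i| =
      univ.gcd δ * ((M.map (diag δ)).relIndex (csum n).ker : ℤ) := by
  set L := ((csum n).comp (diag δ)).ker with hL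
  have hDL : L.map (diag δ) = (diag δ).range ⊓ (csum n).ker := by
    ext x
    constructor
    · rintro ⟨y, hy, rfl⟩
      exact ⟨⟨y, rfl⟩, hy⟩
    · rintro ⟨⟨y, rfl⟩, hy⟩
      exact ⟨y, hy, rfl⟩
  have h1 : (M.map (diag δ)).relIndex (csum n).ker =
      M.relIndex L * (diag δ).range.relIndex (csum n).ker := by
    rw [← AddSubgroup.relIndex_mul_relIndex _ (L.map (diag δ)) _ (AddSubgroup.map_mono hM)
      (hDL ▸ inf_le_right), AddSubgroup.relIndex_map_map_of_injective M L (diag_injective hδ), hDL,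
      AddSubgroup.inf_relIndex_right]
  have h2 : (diag δ).range.index =
      (diag δ).range.relIndex (csum n).ker * (univ.gcd δ).natAbs := by
    rw [← AddSubgroup.relIndex_sup_left (csum n).ker (diag δ).range,
      ← AddSubgroup.relIndex_mul_index (show (diag δ).range ≤ (diag δ).range ⊔ (csum n).ker from le_sup_left),
      ← AddSubgroup.comap_map_eq, AddSubgroup.index_comap_of_surjective _ (csum_surjective hn),
      AddMonoidHom.map_range, range_csum_diag, Int.index_zmultiples]
  rw [← index_range_diag, h1, h2]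
  push_cast
  rw [abs_of_nonneg (gcd_nonneg δ)]
  ring

theorem ker_eq_zmultiples (hn : 0 < n) {δ' : Fin n → ℤ} (hδ' : ∀ i, δ' i ≠ 0)
    (A : Matrix (Fin n) (Fin n) ℤ) (hA : A.rank = n - 1) (h0 : A.mulVec δ' = 0) :
    ∃ w : Fin n → ℤ, (∀ i, δ' i = univ.gcd δ' * w i) ∧
      (Matrix.mulVecLin A).toAddMonoidHom.ker = AddSubgroup.zmultiples w := by
  obtain ⟨w, hw, hwgcd⟩ := Finset.extract_gcd δ' (s := univ) ⟨⟨0, hn⟩, mem_univ _⟩
  have hd : univ.gcd δ' ≠ 0 := fun h => hδ' ⟨0, hn⟩ (Finset.gcd_eq_zero_iff.1 h _ (mem_univ _))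
  refine ⟨w, fun i => hw i (mem_univ i), le_antisymm (fun x hx => ?_) (AddSubgroup.zmultiples_le.2 ?_)⟩
  · have hker : Module.finrank ℤ (LinearMap.ker (Matrix.mulVecLin A)) = 1 := by
      have h := Submodule.finrank_quotient_add_finrank (LinearMap.ker (Matrix.mulVecLin A))
      rw [(Matrix.mulVecLin A).quotKerEquivRange.finrank_eq, Module.finrank_fin_fun] at h
      change A.rank + _ = _ at h
      omega
    let xK : LinearMap.ker (Matrix.mulVecLin A) := ⟨x, hx⟩
    let dK : LinearMap.ker (Matrix.mulVecLin A) := ⟨δ', h0⟩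
    have hdep : ¬ LinearIndependent ℤ ![xK, dK] := fun hli => by
      have := hli.fintype_card_le_finrank
      rw [hker, Fintype.card_fin] at this
      omega
    rw [LinearIndependent.pair_iff] at hdep
    push Not at hdep
    obtain ⟨a, b, hab, hne⟩ := hdep
    have hi : ∀ i, a * x i + b * δ' i = 0 := fun i => congrFun (congrArg Subtype.val hab) i
    have ha : a ≠ 0 := by
      intro ha
      have := hi ⟨0, hn⟩
      rw [ha, zero_mul, zero_add, mul_eq_zero] at this
      exact hne ha (this.resolve_right (hδ' _))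
    have hdvd : a ∣ b * univ.gcd δ' := by
      have h1 : a ∣ univ.gcd (fun i => b * univ.gcd δ' * w i) :=
        Finset.dvd_gcd fun i _ => ⟨-x i, by
          have := hi i
          rw [hw i (mem_univ i)] at this
          linear_combination this⟩
      rw [Finset.gcd_mul_left, hwgcd, mul_one] at h1
      exact dvd_normalize_iff.1 h1
    obtain ⟨c, hc⟩ := hdvd
    refine AddSubgroup.mem_zmultiples_iff.2 ⟨-c, funext fun i => mul_left_cancel₀ ha ?_⟩
    have := hi i
    rw [hw i (mem_univ i)] at this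
    simp only [Pi.smul_apply, smul_eq_mul]
    linear_combination -this + w i * hc
  · show A.mulVec w = 0
    have h : δ' = univ.gcd δ' • w := funext fun i => by simpa using hw i (mem_univ i)
    rw [h, Matrix.mulVec_smul] at h0
    exact (smul_eq_zero.1 h0).resolve_left hd

theorem relIndex_range_mul (hn : 0 < n) {δ' : Fin n → ℤ} (hδ' : ∀ i, δ' i ≠ 0)
    (A : Matrix (Fin n) (Fin n) ℤ) (hA : A.rank = n - 1) (h0 : A.mulVec δ' = 0) :
    |∏ i, δ' i| = univ.gcd δ' *
      ((((Matrix.mulVecLin A).toAddMonoidHom.comp (diag δ')).range.relIndex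
        (Matrix.mulVecLin A).toAddMonoidHom.range : ℕ) : ℤ) := by
  obtain ⟨w, hw, hker⟩ := ker_eq_zmultiples hn hδ' A hA h0
  set f := (Matrix.mulVecLin A).toAddMonoidHom with hf
  have h1 : (f.comp (diag δ')).range.relIndex f.range = ((diag δ').range ⊔ f.ker).index := by
    rw [← AddMonoidHom.map_range, ← AddSubgroup.index_comap, AddSubgroup.comap_map_eq]
  have hd : univ.gcd δ' ≠ 0 := fun h => hδ' ⟨0, hn⟩ (Finset.gcd_eq_zero_iff.1 h _ (mem_univ _))
  have h2 : (diag δ').range.relIndex f.ker = (univ.gcd δ').natAbs := by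
    have hr : f.ker = (zmultiplesHom (Fin n → ℤ) w).range := by
      rw [hker]; ext x; simp [AddSubgroup.mem_zmultiples_iff]
    rw [hr, ← AddSubgroup.index_comap, ← Int.index_zmultiples]
    congr 1
    ext k
    rw [AddSubgroup.mem_comap, Int.mem_zmultiples_iff, zmultiplesHom_apply]
    constructor
    · rintro ⟨y, hy⟩
      refine ⟨y ⟨0, hn⟩, mul_right_cancel₀ (fun h => hδ' ⟨0, hn⟩ (by rw [hw, h, mul_zero])) (b := w ⟨0, hn⟩) ?_⟩
      have := congrFun hy ⟨0, hn⟩
      simp only [diag_apply, Pi.smul_apply, smul_eq_mul] at this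
      rw [← this, hw]
      ring
    · rintro ⟨m, rfl⟩
      refine ⟨fun _ => m, funext fun i => ?_⟩
      simp only [diag_apply, Pi.smul_apply, smul_eq_mul]
      rw [hw]
      ring
  rw [← index_range_diag, h1, ← AddSubgroup.relIndex_mul_index
    (show (diag δ').range ≤ (diag δ').range ⊔ f.ker from le_sup_left), AddSubgroup.relIndex_sup_left, h2]
  push_cast
  rw [abs_of_nonneg (gcd_nonneg δ')]

theorem card_quot_comap_subtype (L M : Submodule ℤ (Fin n → ℤ)) :
    Nat.card (L ⧸ M.comap L.subtype) = M.toAddSubgroup.relIndex L.toAddSubgroup := rfl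

end Groth.Agent.LatIndex
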